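import Mathlib
import Cfsg.Agent.H400.GsBase
import Cfsg.Agent.Hexagon.HexComm
import Cfsg.Agent.RootSeq.Final

/-!
# S4327: the chain of long root groups in a hexagonal system (`G₂(q)`, `³D₄(q)`), helper164

`c : RGDZ 6 Y`, `P : HexPar σ c.X x1 … x6` (even root groups long, with parameters in `F = Fix σ`; odd ones short).

* `long` : `OP a (X 0) (X 6)`, `Reach a k (X 0 ⊔ X 6)` gives `Reach a (k + 2) (Long c)`;
* `top_of_three`, `top_refl`, `top_td4` : `Reach a k (Long c)` gives `Reach a (k + 3) ⊤` (`|F| ≥ 3`);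
* `top_two` : `|F| = 2`, `|E| = 8`: `Reach a (k + 5) ⊤`.
-/

set_option autoImplicit false
set_option linter.unusedSectionVars false

namespace Cfsg.Agent.H164.Gs

open Cfsg.Agent.H915.Gs (Reach im)
open Cfsg.Agent.H400.Gs (OP)
open Cfsg.Agent.SplitTwo Cfsg.Agent.TitsThree.RankTwoIdx Cfsg.Agent.TitsThree.RankTwoZ
open Cfsg.Agent.RootSeq.Seg
open scoped commutatorElement

/-! ### Abstract part -/

section Abs

variable {Y : Type*} [Group Y]

/-- a fixed element of `A` and the elements of `B` give all elements of `C` as commutators -/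
def Cm (A B C : Subgroup Y) : Prop := ∃ u ∈ A, ∀ w ∈ C, ∃ v ∈ B, u * v * u⁻¹ * v⁻¹ = w

/-- `A` and `B` commute -/
def Cc (A B : Subgroup Y) : Prop := ∀ x ∈ A, ∀ y ∈ B, x * y = y * x

variable {A B C J : Subgroup Y} {a : MulAut Y} {k : ℕ}

theorem mem_map_conj {g x : Y} : x ∈ A.map (MulAut.conj g).toMonoidHom ↔ g⁻¹ * x * g ∈ A := by
  constructor
  · rintro ⟨y, hy, rfl⟩
    have : g⁻¹ * ((MulAut.conj g).toMonoidHom y) * g = y := by
      change g⁻¹ * (g * y * g⁻¹) * g = y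
      group
    rwa [this]
  · intro h
    refine ⟨_, h, ?_⟩
    change g * (g⁻¹ * x * g) * g⁻¹ = x
    group

theorem Cm.conj (h : Cm A B C) (g : Y) : Cm (A.map (MulAut.conj g).toMonoidHom)
    (B.map (MulAut.conj g).toMonoidHom) (C.map (MulAut.conj g).toMonoidHom) := by
  obtain ⟨u, hu, h⟩ := h
  refine ⟨_, ⟨u, hu, rfl⟩, ?_⟩
  rintro _ ⟨w, hw, rfl⟩
  obtain ⟨v, hv, rfl⟩ := h w hw
  refine ⟨_, ⟨v, hv, rfl⟩, ?_⟩
  simp only [map_mul, map_inv]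

theorem Cc.conj (h : Cc A B) (g : Y) : Cc (A.map (MulAut.conj g).toMonoidHom)
    (B.map (MulAut.conj g).toMonoidHom) := by
  rintro _ ⟨x, hx, rfl⟩ _ ⟨y, hy, rfl⟩
  rw [← map_mul, ← map_mul, h x hx y hy]

theorem Cc.symm (h : Cc A B) : Cc B A := fun x hx y hy => (h y hy x hx).symm

theorem Cc.map_eq {g : Y} (h : ∀ x ∈ A, g * x = x * g) : A.map (MulAut.conj g).toMonoidHom = A := by
  ext w
  rw [mem_map_conj]
  constructor
  · intro hw
    have h1 := h _ hw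
    have h2 : w = g⁻¹ * w * g := by
      have h3 : g * (g⁻¹ * w * g) = w * g := by group
      rw [h3] at h1
      exact mul_right_cancel h1
    rw [h2]
    exact hw
  · intro hw
    have h1 : g⁻¹ * w * g = w := by
      rw [mul_assoc, ← h w hw, inv_mul_cancel_left]
    rwa [h1]

theorem Cm.le (h : Cm A B C) (hA : A ≤ J) (hB : B ≤ J) : C ≤ J := by
  obtain ⟨u, hu, h⟩ := h
  intro w hw
  obtain ⟨v, hv, rfl⟩ := h w hw
  exact mul_mem (mul_mem (mul_mem (hA hu) (hB hv)) (inv_mem (hA hu))) (inv_mem (hB hv))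

/-- **one more conjugate** of `a`, obtained with an element centralising `A` -/
theorem add_conj (hO : OP a A B) {u : Y} (hu : ∀ x ∈ A, u * x = x * u) (hR : Reach a k J) (hA : A ≤ J) :
    Reach a (k + 1) (J ⊔ B.map (MulAut.conj u).toMonoidHom) := by
  have h1 := hO.conj u
  rw [Cc.map_eq hu] at h1
  exact h1.reach hR hA

theorem add_cm {U : Subgroup Y} (hO : OP a A B) (hU : Cc U A) (hR : Reach a k J) (hA : A ≤ J) (hB : B ≤ J)
    (hC : Cm U B C) : Reach a (k + 1) (J ⊔ C) := by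
  obtain ⟨u, hu, h⟩ := hC
  refine (add_conj hO (fun x hx => hU u hu x hx) hR hA).sub (sup_le le_sup_left ?_)
  intro w hw
  obtain ⟨v, hv, rfl⟩ := h w hw
  refine mul_mem (Subgroup.mem_sup_right ⟨v, hv, rfl⟩) (Subgroup.mem_sup_left (hB (inv_mem hv)))

end Abs

/-! ### A cubic extension -/

/-- an element outside the fixed field generates -/
theorem vander {E : Type*} [Field E] {σ : E ≃+* E} (h3 : ∀ a, σ (σ (σ a)) = a) {θ : E} (hθ : σ θ ≠ θ) (e : E) :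
    ∃ r u v, σ r = r ∧ σ u = u ∧ σ v = v ∧ e = r + u * θ + v * θ ^ 2 := by
  have h1 : σ θ - θ ≠ 0 := sub_ne_zero.2 hθ
  have h2 : σ (σ θ) - σ θ ≠ 0 := sub_ne_zero.2 fun h => hθ (σ.injective h)
  have h4 : θ - σ (σ θ) ≠ 0 := sub_ne_zero.2 fun h => hθ (by
    have := congrArg σ h
    rwa [h3] at this)
  have hs3 := h3 θ
  have he3 := h3 e
  refine ⟨-(e * (σ (σ θ) - σ θ) * σ θ * σ (σ θ) + σ e * (θ - σ (σ θ)) * σ (σ θ) * θ +
      σ (σ e) * (σ θ - θ) * θ * σ θ) / ((σ θ - θ) * (σ (σ θ) - σ θ) * (θ - σ (σ θ))),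
    (e * (σ (σ θ) - σ θ) * (σ θ + σ (σ θ)) + σ e * (θ - σ (σ θ)) * (σ (σ θ) + θ) +
      σ (σ e) * (σ θ - θ) * (θ + σ θ)) / ((σ θ - θ) * (σ (σ θ) - σ θ) * (θ - σ (σ θ))),
    -(e * (σ (σ θ) - σ θ) + σ e * (θ - σ (σ θ)) + σ (σ e) * (σ θ - θ)) /
      ((σ θ - θ) * (σ (σ θ) - σ θ) * (θ - σ (σ θ))), ?_, ?_, ?_, ?_⟩
  · simp only [map_div₀, map_neg, map_add, map_mul, map_sub, hs3, he3]
    congr 1 <;> ring
  · simp only [map_div₀, map_add, map_mul, map_sub, hs3, he3]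
    congr 1 <;> ring
  · simp only [map_div₀, map_neg, map_add, map_mul, map_sub, hs3, he3]
    congr 1 <;> ring
  · generalize σ (σ θ) = w at *
    generalize σ θ = v at *
    generalize σ (σ e) = g at *
    generalize σ e = f at *
    field_simp
    ring

/-! ### The root groups -/

section Hex

variable {Y : Type*} [Group Y] (c : RGDZ 6 Y) {E : Type*} [Field E] {σ : E ≃+* E} {x1 x2 x3 x4 x5 x6 : E → Y}

/-- the group generated by the long root groups -/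
def Long : Subgroup Y := ⨆ i : ZMod (2 * 6), c.X (2 * i)

theorem X_le_Long {k : ZMod (2 * 6)} (i : ZMod (2 * 6)) (h : k = 2 * i) : c.X k ≤ Long c := by
  rw [h]
  exact le_iSup (fun i : ZMod (2 * 6) => c.X (2 * i)) i

theorem map_X {w : Y} {f : ZMod (2 * 6) → ZMod (2 * 6)} (h : Maps c.X w f) (k : ZMod (2 * 6)) :
    (c.X k).map (MulAut.conj w).toMonoidHom = c.X (f k) := by
  ext x
  rw [mem_map_conj, ← h k]
  have e : w * (w⁻¹ * x * w) * w⁻¹ = x := by group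
  rw [e]

theorem exists_rot (j : ℕ) : ∃ r : Y, Maps c.X r (fun k => k + 2 * j) := by
  induction j with
  | zero => exact ⟨1, Maps.one.congr fun k => by simp⟩
  | succ j ih =>
    obtain ⟨r, hr⟩ := ih
    refine ⟨(c.nI * c.nJ) * r, ((c.nI_maps.mul c.nJ_maps).mul hr).congr fun k => ?_⟩
    simp only [Function.comp]
    push_cast
    ring

theorem nJ_maps' : Maps c.X c.nJ (fun k => 6 - k) := c.nJ_maps

theorem nJ_inv_maps : Maps c.X c.nJ⁻¹ (fun k => 6 - k) := (nJ_maps' c).inv fun k => by ring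

theorem nJ_mem' : c.nJ ∈ Long c :=
  (sup_le (X_le_Long c 3 (by decide)) (X_le_Long c 0 (by decide)) : c.X (6 : ℕ) ⊔ c.X 0 ≤ Long c) c.nJ_mem

/-- the Weyl elements of the long root groups -/
theorem exists_refl (j : ℕ) : ∃ w ∈ Long c, Maps c.X w (fun k => 6 + 4 * j - k) := by
  obtain ⟨r, hr⟩ := exists_rot c j
  have hri : Maps c.X r⁻¹ (fun k => k - 2 * j) := hr.inv fun k => by ring
  refine ⟨r * c.nJ * r⁻¹, ?_, ((hr.mul (nJ_maps' c)).mul hri).congr fun k => ?_⟩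
  · have h1 : c.nJ ∈ c.X (6 : ℕ) ⊔ c.X 0 := c.nJ_mem
    have h2 : (MulAut.conj r).toMonoidHom c.nJ ∈ (c.X (6 : ℕ) ⊔ c.X 0).map (MulAut.conj r).toMonoidHom := ⟨_, h1, rfl⟩
    rw [Subgroup.map_sup, map_X c hr, map_X c hr] at h2
    refine (sup_le (X_le_Long c (3 + j) ?_) (X_le_Long c j ?_) : _ ≤ Long c) h2
    · push_cast; ring
    · ring
  · simp only [Function.comp]
    ring

variable {c}
variable (P : HexPar σ c.X x1 x2 x3 x4 x5 x6)
include P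

theorem z1 : x1 0 = 1 := by
  have := P.rel.add1 0 0
  rw [add_zero] at this
  exact left_eq_mul.1 this
theorem z2 : x2 0 = 1 := by
  have := P.rel.add2 0 0 (map_zero σ) (map_zero σ)
  rw [add_zero] at this
  exact left_eq_mul.1 this
theorem z3 : x3 0 = 1 := by
  have := P.rel.add3 0 0
  rw [add_zero] at this
  exact left_eq_mul.1 this
theorem z4 : x4 0 = 1 := by
  have := P.rel.add4 0 0 (map_zero σ) (map_zero σ)
  rw [add_zero] at this
  exact left_eq_mul.1 this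
theorem z5 : x5 0 = 1 := by
  have := P.rel.add5 0 0
  rw [add_zero] at this
  exact left_eq_mul.1 this
theorem z6 : x6 0 = 1 := by
  have := P.rel.add6 0 0 (map_zero σ) (map_zero σ)
  rw [add_zero] at this
  exact left_eq_mul.1 this

theorem i1 (a : E) : x1 (-a) = (x1 a)⁻¹ := by
  rw [eq_inv_iff_mul_eq_one, ← P.rel.add1, neg_add_cancel, z1 P]
theorem i2 {a : E} (ha : σ a = a) : x2 (-a) = (x2 a)⁻¹ := by
  rw [eq_inv_iff_mul_eq_one, ← P.rel.add2 _ _ (by rw [map_neg, ha]) ha, neg_add_cancel, z2 P]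
theorem i3 (a : E) : x3 (-a) = (x3 a)⁻¹ := by
  rw [eq_inv_iff_mul_eq_one, ← P.rel.add3, neg_add_cancel, z3 P]
theorem i4 {a : E} (ha : σ a = a) : x4 (-a) = (x4 a)⁻¹ := by
  rw [eq_inv_iff_mul_eq_one, ← P.rel.add4 _ _ (by rw [map_neg, ha]) ha, neg_add_cancel, z4 P]
theorem i5 (a : E) : x5 (-a) = (x5 a)⁻¹ := by
  rw [eq_inv_iff_mul_eq_one, ← P.rel.add5, neg_add_cancel, z5 P]
theorem i6 {a : E} (ha : σ a = a) : x6 (-a) = (x6 a)⁻¹ := by
  rw [eq_inv_iff_mul_eq_one, ← P.rel.add6 _ _ (by rw [map_neg, ha]) ha, neg_add_cancel, z6 P]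

theorem m1 (a : E) : x1 a ∈ c.X 1 := (P.mem1 _).2 ⟨a, rfl⟩
theorem m2 {a : E} (ha : σ a = a) : x2 a ∈ c.X 2 := (P.mem2 _).2 ⟨a, ha, rfl⟩
theorem m3 (a : E) : x3 a ∈ c.X 3 := (P.mem3 _).2 ⟨a, rfl⟩
theorem m4 {a : E} (ha : σ a = a) : x4 a ∈ c.X 4 := (P.mem4 _).2 ⟨a, ha, rfl⟩
theorem m5 (a : E) : x5 a ∈ c.X 5 := (P.mem5 _).2 ⟨a, rfl⟩
theorem m6 {a : E} (ha : σ a = a) : x6 a ∈ c.X 6 := (P.mem6 _).2 ⟨a, ha, rfl⟩

omit P in
theorem comm_of_kk {G : Type*} [Group G] {u v : G} (h : kk u v = 1) : u * v = v * u := by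
  have : u * v = v * u * kk u v := by unfold kk; group
  rw [this, h, mul_one]

theorem cm264 : Cm (c.X 2) (c.X 6) (c.X 4) := by
  refine ⟨x2 1, m2 P (map_one σ), ?_⟩
  intro w hw
  obtain ⟨t, ht, rfl⟩ := (P.mem4 w).1 hw
  refine ⟨x6 t, m6 P ht, ?_⟩
  have h1 := P.rel.c26 (-1) (-t) (by rw [map_neg, map_one]) (by rw [map_neg, ht])
  rw [i2 P (map_one σ), i6 P ht, neg_mul_neg, one_mul] at h1
  rw [← h1, kk]
  group

theorem cm624 : Cm (c.X 6) (c.X 2) (c.X 4) := by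
  refine ⟨x6 1, m6 P (map_one σ), ?_⟩
  intro w hw
  obtain ⟨t, ht, rfl⟩ := (P.mem4 w).1 hw
  have ht' : σ (-t) = -t := by rw [map_neg, ht]
  refine ⟨x2 (-t), m2 P ht', ?_⟩
  have h1 := P.rel.c26 t (-1) ht (by rw [map_neg, map_one])
  rw [i6 P (map_one σ), mul_neg, mul_one, i4 P ht, eq_inv_iff_mul_eq_one] at h1
  rw [i2 P ht, ← mul_right_inj (kk (x2 t) (x6 1)⁻¹), h1, kk]
  group

theorem cc24 : Cc (c.X 2) (c.X 4) := by
  intro x hx y hy
  obtain ⟨t, ht, rfl⟩ := (P.mem2 x).1 hx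
  obtain ⟨u, hu, rfl⟩ := (P.mem4 y).1 hy
  exact comm_of_kk (P.rel.c24 t u ht hu)

theorem cc56 : Cc (c.X 5) (c.X 6) := by
  intro x hx y hy
  obtain ⟨t, rfl⟩ := (P.mem5 x).1 hx
  obtain ⟨u, hu, rfl⟩ := (P.mem6 y).1 hy
  exact comm_of_kk (P.rel.c56 t u hu)

theorem cc36 : Cc (c.X 3) (c.X 6) := by
  intro x hx y hy
  obtain ⟨t, rfl⟩ := (P.mem3 x).1 hx
  obtain ⟨u, hu, rfl⟩ := (P.mem6 y).1 hy
  exact comm_of_kk (P.rel.c36 t u hu)

theorem cc30 : Cc (c.X 3) (c.X 0) := by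
  have h := (cc36 P).conj c.nJ
  rw [map_X c (nJ_maps' c), map_X c (nJ_maps' c)] at h
  have e1 : (6 : ZMod (2 * 6)) - 3 = 3 := by decide
  have e2 : (6 : ZMod (2 * 6)) - 6 = 0 := by decide
  rwa [e1, e2] at h

theorem cc10 : Cc (c.X 1) (c.X 0) := by
  have h := (cc56 P).conj c.nJ
  rw [map_X c (nJ_maps' c), map_X c (nJ_maps' c)] at h
  have e1 : (6 : ZMod (2 * 6)) - 5 = 1 := by decide
  have e2 : (6 : ZMod (2 * 6)) - 6 = 0 := by decide
  rwa [e1, e2] at h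

theorem cm264_rot (j : ℕ) {i1 i2 i3 : ZMod (2 * 6)} (h1 : i1 = 2 + 2 * j) (h2 : i2 = 6 + 2 * j)
    (h3 : i3 = 4 + 2 * j) : Cm (c.X i1) (c.X i2) (c.X i3) := by
  obtain ⟨r, hr⟩ := exists_rot c j
  have h := (cm264 P).conj r
  rw [map_X c hr, map_X c hr, map_X c hr] at h
  rw [h1, h2, h3]
  exact h

theorem cm624_rot (j : ℕ) {i1 i2 i3 : ZMod (2 * 6)} (h1 : i1 = 6 + 2 * j) (h2 : i2 = 2 + 2 * j)
    (h3 : i3 = 4 + 2 * j) : Cm (c.X i1) (c.X i2) (c.X i3) := by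
  obtain ⟨r, hr⟩ := exists_rot c j
  have h := (cm624 P).conj r
  rw [map_X c hr, map_X c hr, map_X c hr] at h
  rw [h1, h2, h3]
  exact h

theorem cc24_rot (j : ℕ) {i1 i2 : ZMod (2 * 6)} (h1 : i1 = 2 + 2 * j) (h2 : i2 = 4 + 2 * j) :
    Cc (c.X i1) (c.X i2) := by
  obtain ⟨r, hr⟩ := exists_rot c j
  have h := (cc24 P).conj r
  rw [map_X c hr, map_X c hr] at h
  rw [h1, h2]
  exact h

variable {a : MulAut Y} {k : ℕ} {J : Subgroup Y}

/-- **(3a)** the long root groups, with two more conjugates -/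
theorem long (hO : OP a (c.X 0) (c.X 6)) (hR : Reach a k (c.X 0 ⊔ c.X 6)) : Reach a (k + 2) (Long c) := by
  have s1 : Reach a (k + 1) ((c.X 0 ⊔ c.X 6) ⊔ c.X 4) :=
    add_cm hO (U := c.X 2) ((cc24_rot P 5 (i1 := 0) (i2 := 2) (by decide) (by decide)).symm) hR le_sup_left
      le_sup_right (cm264 P)
  have s2 : Reach a (k + 1 + 1) (((c.X 0 ⊔ c.X 6) ⊔ c.X 4) ⊔ c.X 8) :=
    add_cm hO (U := c.X 10) (cc24_rot P 4 (i1 := 10) (i2 := 0) (by decide) (by decide)) s1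
      (le_sup_left.trans le_sup_left) (le_sup_right.trans le_sup_left)
      (cm624_rot P 2 (by decide) (by decide) (by decide))
  refine s2.sub (iSup_le fun i => ?_)
  have t0 : c.X 0 ≤ ((c.X 0 ⊔ c.X 6) ⊔ c.X 4) ⊔ c.X 8 := (le_sup_left.trans le_sup_left).trans le_sup_left
  have t6 : c.X 6 ≤ ((c.X 0 ⊔ c.X 6) ⊔ c.X 4) ⊔ c.X 8 := (le_sup_right.trans le_sup_left).trans le_sup_left
  have t4 : c.X 4 ≤ ((c.X 0 ⊔ c.X 6) ⊔ c.X 4) ⊔ c.X 8 := le_sup_right.trans le_sup_left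
  have t8 : c.X 8 ≤ ((c.X 0 ⊔ c.X 6) ⊔ c.X 4) ⊔ c.X 8 := le_sup_right
  have t2 : c.X 2 ≤ ((c.X 0 ⊔ c.X 6) ⊔ c.X 4) ⊔ c.X 8 :=
    (cm264_rot P 5 (i1 := 0) (i2 := 4) (by decide) (by decide) (by decide)).le t0 t4
  have t10 : c.X 10 ≤ ((c.X 0 ⊔ c.X 6) ⊔ c.X 4) ⊔ c.X 8 :=
    (cm264_rot P 3 (i1 := 8) (i2 := 0) (by decide) (by decide) (by decide)).le t8 t0
  have key : ∀ i : ZMod (2 * 6), 2 * i = 0 ∨ 2 * i = 2 ∨ 2 * i = 4 ∨ 2 * i = 6 ∨ 2 * i = 8 ∨ 2 * i = 10 := by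
    decide
  rcases key i with h | h | h | h | h | h <;> rw [h] <;> assumption

/-! ### The action of the Weyl elements of `⟨X 0, X 6⟩` on `X 1`, `X 5` -/

theorem kc16 (a : E) {t : E} (ht : σ t = t) : x1 a * x6 t * (x1 a)⁻¹ * (x6 t)⁻¹ =
    x2 (-(t * nrm σ a)) * x3 (-(t * shp σ a)) * x4 (-(t ^ 2 * nrm σ a)) * x5 (-(t * a)) := by
  have h1 := P.rel.c16 (-a) (-t) (by rw [map_neg, ht])
  rw [i1 P, i6 P ht] at h1
  have e1 : nrm σ (-a) = -nrm σ a := by unfold nrm; simp only [map_neg]; ring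
  have e2 : shp σ (-a) = shp σ a := by unfold shp; simp only [map_neg]; ring
  rw [e1, e2] at h1
  have e3 : -(-t * -nrm σ a) = -(t * nrm σ a) := by ring
  have e4 : -t * shp σ a = -(t * shp σ a) := by ring
  have e5 : (-t) ^ 2 * -nrm σ a = -(t ^ 2 * nrm σ a) := by ring
  have e6 : -(-t * -a) = -(t * a) := by ring
  rw [e3, e4, e5, e6] at h1
  rw [← h1, kk]
  group

theorem nfix (a : E) : σ (nrm σ a) = nrm σ a := Cfsg.Agent.Hexagon.HexComm.nrm_fix P.rel.cube a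
theorem tfix (a b : E) : σ (trc σ a b) = trc σ a b := Cfsg.Agent.Hexagon.HexComm.trc_fix P.rel.cube a b

omit P in
theorem mp {w : Y} {f : ZMod (2 * 6) → ZMod (2 * 6)} (h : Maps c.X w f) {i j : ZMod (2 * 6)} (e : f i = j) {x : Y}
    (hx : x ∈ c.X i) : w * x * w⁻¹ ∈ c.X j := by
  rw [← e]
  exact (h i x).2 hx

/-- the Weyl elements of `⟨X 0, X 6⟩` -/
theorem exists_mu {t : E} (ht : σ t = t) (h0 : t ≠ 0) : ∃ y ∈ c.X 0, ∃ z ∈ c.X 0,
    Maps c.X (y * x6 t * z) (fun k => 6 - k) := by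
  have h1 : c.nJ⁻¹ * x6 t * c.nJ⁻¹⁻¹ ∈ c.X 0 := mp (nJ_inv_maps c) (by decide) (m6 P ht)
  have h2 : c.nJ⁻¹ * x6 t * c.nJ⁻¹⁻¹ ≠ 1 := by
    intro h
    apply h0
    have h3 : x6 t = 1 := by
      have := congrArg (fun g => c.nJ * g * c.nJ⁻¹) h
      simpa [mul_assoc] using this
    rw [← z6 P] at h3
    exact P.inj6 _ _ ht (map_zero σ) h3
  obtain ⟨x, hx, y, hy, h⟩ := c.muJ _ h1 h2
  have m : ∀ v ∈ c.X ((6 : ℕ) : ZMod (2 * 6)), c.nJ * v * c.nJ⁻¹ ∈ c.X 0 :=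
    fun v hv => mp (nJ_maps' c) (by decide) hv
  refine ⟨c.nJ * x * c.nJ⁻¹, m x hx, c.nJ * y * c.nJ⁻¹, m y hy, ?_⟩
  have e : c.nJ * x * c.nJ⁻¹ * x6 t * (c.nJ * y * c.nJ⁻¹) =
      c.nJ * (x * (c.nJ⁻¹ * x6 t * c.nJ⁻¹⁻¹) * y) * c.nJ⁻¹ := by group
  rw [e]
  refine (((nJ_maps' c).mul h).mul (nJ_inv_maps c)).congr fun k => ?_
  simp only [Function.comp]
  push_cast
  ring

omit P in
theorem seg_map {w : Y} (h : Maps c.X w (fun k => 6 - k)) {i j : ℕ} (h1 : i ≤ j) (h2 : j ≤ 6) :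
    ∀ x ∈ seg c.r2 i j, w * x * w⁻¹ ∈ seg c.r2 (6 - j) (6 - i) := by
  refine conj_seg (fun l hl1 hl2 x hx => ?_)
  have e : (6 : ZMod (2 * 6)) - l = ((6 - l : ℕ) : ZMod (2 * 6)) := by
    rw [Nat.cast_sub (by omega)]; rfl
  exact X_le_seg c.r2 (by omega) (by omega) (mp h e hx)

omit P in
/-- `[X 5, X 0] ≤ X 1 ⋯ X 4` -/
theorem comm50 {v y : Y} (hv : v ∈ c.X 5) (hy : y ∈ c.X 0) : v⁻¹ * y⁻¹ * v * y ∈ seg c.r2 1 4 := by
  have h1 : c.nJ * v * c.nJ⁻¹ ∈ c.r2.X 1 := mp (j := ((1 : ℕ) : ZMod (2 * 6))) (nJ_maps' c) (by decide) hv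
  have h2 : c.nJ * y * c.nJ⁻¹ ∈ c.r2.X 6 := mp (j := ((6 : ℕ) : ZMod (2 * 6))) (nJ_maps' c) (by decide) hy
  have h3 := comm_mem c.r2 (k := 1) (l := 6) le_rfl (by norm_num) le_rfl (inv_mem h1) (inv_mem h2)
  have h4 := seg_map (nJ_inv_maps c) (i := 2) (j := 5) (by norm_num) (by norm_num) _ h3
  have e : c.nJ⁻¹ * ⁅(c.nJ * v * c.nJ⁻¹)⁻¹, (c.nJ * y * c.nJ⁻¹)⁻¹⁆ * c.nJ⁻¹⁻¹ = v⁻¹ * y⁻¹ * v * y := by
    rw [commutatorElement_def]; group
  rw [e] at h4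
  exact h4

/-- **the action on `X 1`** -/
theorem mu_x1 (hg : Good c.r2) {t : E} (ht : σ t = t) {y z : Y} (hy : y ∈ c.X 0) (hz : z ∈ c.X 0)
    (hn : Maps c.X (y * x6 t * z) (fun k => 6 - k)) (a : E) :
    (y * x6 t * z) * x1 a * (y * x6 t * z)⁻¹ = x5 (t * a) := by
  have h1 : (y * x6 t * z) * x1 a * (y * x6 t * z)⁻¹ ∈ c.X 5 := mp hn (by decide) (m1 P a)
  obtain ⟨b, hb⟩ := (P.mem5 _).1 h1
  rw [← hb]
  -- `y⁻¹ x5(b) y = x5(ta) d`
  have hz1 : z * x1 a * z⁻¹ = x1 a := by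
    rw [← cc10 P _ (m1 P a) _ hz, mul_inv_cancel_right]
  have h2 : y⁻¹ * x5 b * y = x6 t * x1 a * (x6 t)⁻¹ := by
    rw [hb]
    have : y⁻¹ * (y * x6 t * z * x1 a * (y * x6 t * z)⁻¹) * y = x6 t * (z * x1 a * z⁻¹) * (x6 t)⁻¹ := by group
    rw [this, hz1]
  have h3 : x6 t * x1 a * (x6 t)⁻¹ = (x1 a * x6 t * (x1 a)⁻¹ * (x6 t)⁻¹)⁻¹ * x1 a := by group
  have hf1 : σ (t * nrm σ a) = t * nrm σ a := by rw [map_mul, nfix P, ht]
  have hf2 : σ (t ^ 2 * nrm σ a) = t ^ 2 * nrm σ a := by rw [map_mul, map_pow, nfix P, ht]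
  rw [h3, kc16 P a ht, i2 P hf1, i3 P, i4 P hf2, i5 P, mul_inv_rev, mul_inv_rev, mul_inv_rev, inv_inv, inv_inv,
    inv_inv, inv_inv] at h2
  -- both sides modulo `X 1 ⋯ X 4`
  have h4 := comm50 (m5 P b) hy
  have h5 : x5 (b - t * a) ∈ seg c.r2 1 4 := by
    have e1 : x5 (b - t * a) = (x5 (t * a))⁻¹ * x5 b := by
      rw [← i5 P, ← P.rel.add5]; congr 1; ring
    have e2 : (x5 (t * a))⁻¹ * x5 b = (x4 (t ^ 2 * nrm σ a) * (x3 (t * shp σ a) * x2 (t * nrm σ a)) * x1 a) *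
        ((x5 b)⁻¹ * y⁻¹ * x5 b * y)⁻¹ := by
      have e3 : x5 b * ((x5 b)⁻¹ * y⁻¹ * x5 b * y) = y⁻¹ * x5 b * y := by group
      rw [eq_mul_inv_iff_mul_eq, mul_assoc, e3, h2]
      group
    rw [e1, e2]
    refine mul_mem (mul_mem (mul_mem (X_le_seg c.r2 (k := 4) (by norm_num) le_rfl (m4 P hf2))
      (mul_mem (X_le_seg c.r2 (k := 3) (by norm_num) (by norm_num) (m3 P _))
        (X_le_seg c.r2 (k := 2) (by norm_num) (by norm_num) (m2 P hf1))))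
      (X_le_seg c.r2 (k := 1) (by norm_num) (by norm_num) ?_)) (inv_mem h4)
    have : x1 a ∈ c.X ((1 : ℕ) : ZMod (2 * 6)) := by
      rw [Nat.cast_one]; exact m1 P a
    exact this
  have h6 := seg_inf hg 4 (by norm_num) _ h5 (X_le_seg c.r2 (k := 5) (by norm_num) (by norm_num) (m5 P _))
  rw [← z5 P] at h6
  have h7 := P.inj5 _ _ h6
  rw [sub_eq_zero.1 h7]

/-- elements of `X 0 ⊔ X 6` centralise `X 3` -/
theorem comm3 {h : Y} (hh : h ∈ c.X 0 ⊔ c.X 6) (b : E) : h * x3 b * h⁻¹ = x3 b := by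
  have h1 : c.X 0 ⊔ c.X 6 ≤ Subgroup.centralizer {x3 b} := by
    refine sup_le (fun y hy => ?_) (fun y hy => ?_)
    · rw [Subgroup.mem_centralizer_singleton_iff]
      exact (cc30 P _ (m3 P b) _ hy).symm
    · rw [Subgroup.mem_centralizer_singleton_iff]
      exact (cc36 P _ (m3 P b) _ hy).symm
  have h2 := Subgroup.mem_centralizer_singleton_iff.1 (h1 hh)
  rw [h2, mul_inv_cancel_right]

/-- **the Weyl element of `⟨X 0, X 6⟩`** -/
theorem exists_n (hg : Good c.r2) {t : E} (ht : σ t = t) (h0 : t ≠ 0) :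
    ∃ n ∈ c.X 0 ⊔ c.X 6, Maps c.X n (fun k => 6 - k) ∧ (∀ a, n * x1 a * n⁻¹ = x5 (t * a)) ∧
      ∀ b, n * x3 b * n⁻¹ = x3 b := by
  obtain ⟨y, hy, z, hz, h⟩ := exists_mu P ht h0
  have hn : y * x6 t * z ∈ c.X 0 ⊔ c.X 6 :=
    mul_mem (mul_mem (Subgroup.mem_sup_left hy) (Subgroup.mem_sup_right (m6 P ht))) (Subgroup.mem_sup_left hz)
  exact ⟨_, hn, h, mu_x1 P hg ht hy hz h, comm3 P hn⟩

/-- **the torus of `⟨X 0, X 6⟩`** -/
theorem exists_h (hg : Good c.r2) {s : E} (hs : σ s = s) (h0 : s ≠ 0) :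
    ∃ h ∈ c.X 0 ⊔ c.X 6, (∀ b, h * x5 b * h⁻¹ = x5 (s * b)) ∧ ∀ b, h * x3 b * h⁻¹ = x3 b := by
  obtain ⟨n, hn, -, h1, -⟩ := exists_n P hg hs h0
  obtain ⟨n', hn', -, h1', -⟩ := exists_n P hg (map_one σ) one_ne_zero
  have hm : n * n'⁻¹ ∈ c.X 0 ⊔ c.X 6 := mul_mem hn (inv_mem hn')
  refine ⟨n * n'⁻¹, hm, fun b => ?_, comm3 P hm⟩
  have h2 := h1' b
  rw [one_mul] at h2
  rw [← h2, ← h1]
  group

/-! ### From the long root groups to everything -/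

theorem y_mem (hL : Long c ≤ J) {b : E} (hB : (c.X 6).map (MulAut.conj (x1 b)).toMonoidHom ≤ J) {t : E}
    (ht : σ t = t) : x3 (-(t * shp σ b)) * x5 (-(t * b)) ∈ J := by
  have h1 : x1 b * x6 t * (x1 b)⁻¹ ∈ J := hB ⟨x6 t, m6 P ht, rfl⟩
  have h2 : x6 t ∈ J := hL (X_le_Long c 3 (by decide) (m6 P ht))
  have h3 := mul_mem h1 (inv_mem h2)
  have hf1 : σ (-(t * nrm σ b)) = -(t * nrm σ b) := by rw [map_neg, map_mul, nfix P, ht]
  have hf2 : σ (-(t ^ 2 * nrm σ b)) = -(t ^ 2 * nrm σ b) := by rw [map_neg, map_mul, map_pow, nfix P, ht]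
  have h4 : x2 (-(t * nrm σ b)) ∈ J := hL (X_le_Long c 1 (by decide) (m2 P hf1))
  have h5 : x4 (-(t ^ 2 * nrm σ b)) ∈ J := hL (X_le_Long c 2 (by decide) (m4 P hf2))
  rw [kc16 P b ht, mul_assoc (x2 _), comm_of_kk (P.rel.c34 _ _ hf2)] at h3
  have h6 := mul_mem (inv_mem h5) (mul_mem (inv_mem h4) h3)
  have e : ∀ p q r s : Y, r⁻¹ * (p⁻¹ * (p * (r * q) * s)) = q * s := fun p q r s => by group
  rwa [e] at h6

/-- the components are separated by the torus -/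
theorem sep (hg : Good c.r2) {s : E} (hs : σ s = s) (h0 : s ≠ 0) (h1 : s ≠ 1) (hL : Long c ≤ J) {b : E}
    (hB : (c.X 6).map (MulAut.conj (x1 b)).toMonoidHom ≤ J) {r : E} (hr : σ r = r) :
    x5 (r * b) ∈ J ∧ x3 (r * shp σ b) ∈ J := by
  obtain ⟨h, hh, h5, h3⟩ := exists_h P hg hs h0
  have hh' : h ∈ J := hL ((sup_le (X_le_Long c 0 (by decide)) (X_le_Long c 3 (by decide)) :
    c.X 0 ⊔ c.X 6 ≤ Long c) hh)
  have key : ∀ r, σ r = r → x5 (r * b) ∈ J := by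
    intro r hr
    have hs1 : (1 : E) - s ≠ 0 := sub_ne_zero.2 (Ne.symm h1)
    have ht : σ (r / (1 - s)) = r / (1 - s) := by rw [map_div₀, map_sub, map_one, hr, hs]
    have k1 := y_mem P hL hB ht
    have k2 := mul_mem (mul_mem hh' k1) (inv_mem hh')
    have e1 : h * (x3 (-(r / (1 - s) * shp σ b)) * x5 (-(r / (1 - s) * b))) * h⁻¹ =
        x3 (-(r / (1 - s) * shp σ b)) * x5 (s * -(r / (1 - s) * b)) := by
      rw [← conj_mul, h3, h5]
    rw [e1] at k2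
    have k3 := mul_mem (inv_mem k1) k2
    have e2 : (x3 (-(r / (1 - s) * shp σ b)) * x5 (-(r / (1 - s) * b)))⁻¹ *
        (x3 (-(r / (1 - s) * shp σ b)) * x5 (s * -(r / (1 - s) * b))) =
        (x5 (-(r / (1 - s) * b)))⁻¹ * x5 (s * -(r / (1 - s) * b)) := by group
    rw [e2, ← i5 P, ← P.rel.add5] at k3
    have e3 : - -(r / (1 - s) * b) + s * -(r / (1 - s) * b) = r * b := by field_simp; ring
    rwa [e3] at k3
  refine ⟨key r hr, ?_⟩
  have hr' : σ (-r) = -r := by rw [map_neg, hr]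
  have k1 := y_mem P hL hB hr'
  have e1 : -(-r * shp σ b) = r * shp σ b := by ring
  have e2 : -(-r * b) = r * b := by ring
  rw [e1, e2] at k1
  have k2 := mul_mem k1 (inv_mem (key r hr))
  rwa [mul_inv_cancel_right] at k2

/-- `X 1 ≤ J` from `X 5 ≤ J` and conversely -/
theorem x1_of_x5 (hg : Good c.r2) (hL : Long c ≤ J) {b : E} (h : x5 b ∈ J) : x1 b ∈ J := by
  obtain ⟨n, hn, -, h1, -⟩ := exists_n P hg (map_one σ) one_ne_zero
  have hn' : n ∈ J := hL ((sup_le (X_le_Long c 0 (by decide)) (X_le_Long c 3 (by decide)) :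
    c.X 0 ⊔ c.X 6 ≤ Long c) hn)
  have h2 := h1 b
  rw [one_mul] at h2
  have h3 := mul_mem (mul_mem (inv_mem hn') h) hn'
  rw [← h2] at h3
  have e : n⁻¹ * (n * x1 b * n⁻¹) * n = x1 b := by group
  rwa [e] at h3

/-- commutators -/
theorem x3_crs (hL : Long c ≤ J) {b d : E} (h1 : x1 b ∈ J) (h5 : x5 d ∈ J) : x3 (crs σ b d) ∈ J := by
  have h2 : kk (x1 b) (x5 d) ∈ J := mul_mem (mul_mem (mul_mem (inv_mem h1) (inv_mem h5)) h1) h5
  rw [P.rel.c15] at h2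
  have hf1 : σ (-(trc σ (shp σ b) d)) = -(trc σ (shp σ b) d) := by rw [map_neg, tfix P]
  have h3 : x2 (-(trc σ (shp σ b) d)) ∈ J := hL (X_le_Long c 1 (by decide) (m2 P hf1))
  have h4 : x4 (trc σ b (shp σ d)) ∈ J := hL (X_le_Long c 2 (by decide) (m4 P (tfix P _ _)))
  have h6 := mul_mem (mul_mem (inv_mem h3) h2) (inv_mem h4)
  have e : ∀ p q r : Y, p⁻¹ * (p * q * r) * r⁻¹ = q := fun p q r => by group
  rwa [e] at h6

omit P in
/-- **the end of the chain** -/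
theorem eq_top (hgen : ⨆ i, c.X i = ⊤) (hL : Long c ≤ J) (h1 : c.X 1 ≤ J) (h3 : c.X 3 ≤ J) (h5 : c.X 5 ≤ J) :
    J = ⊤ := by
  rw [eq_top_iff, ← hgen]
  have mv : ∀ {w : Y}, w ∈ Long c → ∀ {f : ZMod (2 * 6) → ZMod (2 * 6)}, Maps c.X w f → ∀ {i j : ZMod (2 * 6)},
      f i = j → c.X i ≤ J → c.X j ≤ J := by
    intro w hw f hf i j hij hi x hx
    rw [← hij, ← map_X c hf] at hx
    obtain ⟨y, hy, rfl⟩ := hx
    exact mul_mem (mul_mem (hL hw) (hi hy)) (inv_mem (hL hw))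
  obtain ⟨w, hw, hf⟩ := exists_refl c 1
  obtain ⟨w', hw', hf'⟩ := exists_refl c 2
  have h7 : c.X 7 ≤ J := mv hw hf (by decide) h3
  have h9 : c.X 9 ≤ J := mv hw hf (by decide) h1
  have h11 : c.X 11 ≤ J := mv hw' hf' (by decide) h3
  have key : ∀ i : ZMod (2 * 6), (∃ j, i = 2 * j) ∨ i = 1 ∨ i = 3 ∨ i = 5 ∨ i = 7 ∨ i = 9 ∨ i = 11 := by decide
  refine iSup_le fun i => ?_
  rcases key i with ⟨j, h⟩ | rfl | rfl | rfl | rfl | rfl | rfl
  · exact (X_le_Long c j h).trans hL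
  all_goals assumption

theorem eq_top' (hg : Good c.r2) (hgen : ⨆ i, c.X i = ⊤) (hL : Long c ≤ J) (h5 : ∀ e, x5 e ∈ J)
    (h3 : ∀ r, σ r = r → x3 r ∈ J) : J = ⊤ := by
  refine eq_top hgen hL ?_ ?_ ?_
  · intro x hx
    obtain ⟨b, rfl⟩ := (P.mem1 x).1 hx
    exact x1_of_x5 P hg hL (h5 b)
  · intro x hx
    obtain ⟨b, rfl⟩ := (P.mem3 x).1 hx
    have k1 := x3_crs P hL (x1_of_x5 P hg hL (h5 b)) (h5 1)
    have k2 := h3 (b + σ b + σ (σ b)) (by rw [map_add, map_add, P.rel.cube]; ring)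
    have k3 := mul_mem k2 (inv_mem k1)
    rw [← i3 P, ← P.rel.add3] at k3
    have e : b + σ b + σ (σ b) + -crs σ b 1 = b := by
      unfold crs
      simp only [map_one]
      ring
    rwa [e] at k3
  · intro x hx
    obtain ⟨b, rfl⟩ := (P.mem5 x).1 hx
    exact h5 b

/-- **(3b)** pure generation: at least three elements in `F` -/
theorem gen_three (hg : Good c.r2) (hgen : ⨆ i, c.X i = ⊤) {s : E} (hs : σ s = s) (h0 : s ≠ 0) (h1 : s ≠ 1)
    {b d : E} (hspan : ∀ e, ∃ r u v, σ r = r ∧ σ u = u ∧ σ v = v ∧ e = r + u * b + v * d) (hL : Long c ≤ J)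
    (B1 : (c.X 6).map (MulAut.conj (x1 1)).toMonoidHom ≤ J) (Bb : (c.X 6).map (MulAut.conj (x1 b)).toMonoidHom ≤ J)
    (Bd : (c.X 6).map (MulAut.conj (x1 d)).toMonoidHom ≤ J) : J = ⊤ := by
  have h5 : ∀ e, x5 e ∈ J := by
    intro e
    obtain ⟨r, u, v, hr, hu, hv, rfl⟩ := hspan e
    rw [P.rel.add5, P.rel.add5]
    have k1 := (sep P hg hs h0 h1 hL B1 hr).1
    rw [mul_one] at k1
    exact mul_mem (mul_mem k1 (sep P hg hs h0 h1 hL Bb hu).1) (sep P hg hs h0 h1 hL Bd hv).1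
  have h3 : ∀ r, σ r = r → x3 r ∈ J := by
    intro r hr
    have k1 := (sep P hg hs h0 h1 hL B1 hr).2
    have e : r * shp σ 1 = r := by unfold shp; simp only [map_one]; ring
    rwa [e] at k1
  exact eq_top' P hg hgen hL h5 h3

/-- **(3b)** at least three elements in `F` -/
theorem top_of_three (hg : Good c.r2) (hgen : ⨆ i, c.X i = ⊤) {s : E} (hs : σ s = s) (h0 : s ≠ 0) (h1 : s ≠ 1)
    {b d : E} (hspan : ∀ e, ∃ r u v, σ r = r ∧ σ u = u ∧ σ v = v ∧ e = r + u * b + v * d)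
    (hO : OP a (c.X 0) (c.X 6)) (hR : Reach a k (Long c)) : Reach a (k + 3) ⊤ := by
  have hL0 : c.X 0 ≤ Long c := X_le_Long c 0 (by decide)
  have cen : ∀ e : E, ∀ x ∈ c.X 0, x1 e * x = x * x1 e := fun e x hx => cc10 P _ (m1 P e) _ hx
  have r1 := add_conj hO (cen 1) hR hL0
  have r2 := add_conj hO (cen b) r1 (hL0.trans le_sup_left)
  have r3 := add_conj hO (cen d) r2 ((hL0.trans le_sup_left).trans le_sup_left)
  rwa [gen_three P hg hgen hs h0 h1 hspan ((le_sup_left.trans le_sup_left).trans le_sup_left)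
    ((le_sup_right.trans le_sup_left).trans le_sup_left) (le_sup_right.trans le_sup_left) le_sup_right] at r3

/-- **(3b)** pure generation for `σ = 1` (`G₂(q)`, `q ≥ 3`) -/
theorem gen_refl (hσ : ∀ e, σ e = e) (hg : Good c.r2) (hgen : ⨆ i, c.X i = ⊤) {s : E} (h0 : s ≠ 0) (h1 : s ≠ 1)
    (hL : Long c ≤ J) (B1 : (c.X 6).map (MulAut.conj (x1 1)).toMonoidHom ≤ J) : J = ⊤ := by
  have h5 : ∀ e, x5 e ∈ J := by
    intro e
    have k1 := (sep P hg (hσ s) h0 h1 hL B1 (hσ e)).1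
    rwa [mul_one] at k1
  have h3 : ∀ r, σ r = r → x3 r ∈ J := by
    intro r hr
    have k1 := (sep P hg (hσ s) h0 h1 hL B1 hr).2
    have e : r * shp σ 1 = r := by unfold shp; simp only [map_one]; ring
    rwa [e] at k1
  exact eq_top' P hg hgen hL h5 h3

/-- **(3b)** for `σ = 1` (`G₂(q)`, `q ≥ 3`) -/
theorem top_refl (hσ : ∀ e, σ e = e) (hg : Good c.r2) (hgen : ⨆ i, c.X i = ⊤) {s : E} (h0 : s ≠ 0) (h1 : s ≠ 1)
    (hO : OP a (c.X 0) (c.X 6)) (hR : Reach a k (Long c)) : Reach a (k + 1) ⊤ := by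
  have hL0 : c.X 0 ≤ Long c := X_le_Long c 0 (by decide)
  have cen : ∀ e : E, ∀ x ∈ c.X 0, x1 e * x = x * x1 e := fun e x hx => cc10 P _ (m1 P e) _ hx
  have r1 := add_conj hO (cen 1) hR hL0
  rwa [gen_refl P hσ hg hgen h0 h1 le_sup_left le_sup_right] at r1

/-- **(3b)** for `³D₄(q)`, `q ≥ 3` -/
theorem top_td4 (hg : Good c.r2) (hgen : ⨆ i, c.X i = ⊤) {s : E} (hs : σ s = s) (h0 : s ≠ 0) (h1 : s ≠ 1)
    (hO : OP a (c.X 0) (c.X 6)) (hR : Reach a k (Long c)) : Reach a (k + 3) ⊤ := by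
  by_cases hσ : ∀ e, σ e = e
  · exact top_of_three P hg hgen hs h0 h1 (b := 0) (d := 0)
      (fun e => ⟨e, 0, 0, hσ _, hσ _, hσ _, by ring⟩) hO hR
  · push Not at hσ
    obtain ⟨θ, hθ⟩ := hσ
    exact top_of_three P hg hgen hs h0 h1 (vander P.rel.cube hθ) hO hR

/-! ### The field with eight elements -/

/-- **(3c)** pure generation: `|F| = 2`, `|E| = 8` -/
theorem gen_two (hg : Good c.r2) (hgen : ⨆ i, c.X i = ⊤) (hσ : ∀ e, σ e = e ^ 2) (h8 : ∀ e : E, e ^ 8 = e)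
    {θ : E} (hθ : θ ^ 3 = θ + 1) (h2 : (2 : E) = 0) (hL : Long c ≤ J)
    (B1 : (c.X 6).map (MulAut.conj (x1 1)).toMonoidHom ≤ J) (B2 : (c.X 6).map (MulAut.conj (x1 θ)).toMonoidHom ≤ J)
    (B3 : (c.X 6).map (MulAut.conj (x1 (1 + θ))).toMonoidHom ≤ J)
    (B4 : (c.X 6).map (MulAut.conj (x1 (θ ^ 2))).toMonoidHom ≤ J)
    (B5 : (c.X 6).map (MulAut.conj (x1 (1 + θ ^ 2))).toMonoidHom ≤ J) : J = ⊤ := by
  have neg : ∀ e : E, -e = e := fun e => by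
    rw [neg_eq_iff_add_eq_zero, ← two_mul, h2, zero_mul]
  have hy : ∀ {b : E}, (c.X 6).map (MulAut.conj (x1 b)).toMonoidHom ≤ J → x3 (shp σ b) * x5 b ∈ J := by
    intro b hb
    have := y_mem P hL hb (map_one σ)
    rwa [one_mul, one_mul, neg, neg] at this
  have ad5 : ∀ {b d : E}, x5 b ∈ J → x5 d ∈ J → x5 (b + d) ∈ J := fun hb hd => by
    rw [P.rel.add5]; exact mul_mem hb hd
  have ad3 : ∀ {b d : E}, x3 b ∈ J → x3 d ∈ J → x3 (b + d) ∈ J := fun hb hd => by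
    rw [P.rel.add3]; exact mul_mem hb hd
  have sh : ∀ e, shp σ e = e ^ 6 := fun e => by
    unfold shp; rw [hσ, hσ]; ring
  -- `x3 (p) x5 (q)` multiply modulo `X 4`
  have mulY : ∀ {p q p' q' : E}, x3 p * x5 q ∈ J → x3 p' * x5 q' ∈ J → x3 (p + p') * x5 (q + q') ∈ J := by
    intro p q p' q' h h'
    have k1 : kk (x3 p') (x5 q) ∈ J := by
      rw [P.rel.c35]
      exact hL (X_le_Long c 2 (by decide) (m4 P (tfix P _ _)))
    have k2 := mul_mem h h'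
    rw [P.rel.add3, P.rel.add5]
    -- `x5 q * x3 p' = x3 p' * x5 q * z⁻¹`, `z = kk (x3 p') (x5 q)` central modulo
    have k3 : x5 q * x3 p' * kk (x3 p') (x5 q) = x3 p' * x5 q := by unfold kk; group
    have k4 : kk (x3 p') (x5 q) * x5 q' = x5 q' * kk (x3 p') (x5 q) := by
      rw [P.rel.c35]
      exact comm_of_kk (P.rel.c45 _ _ (tfix P _ _))
    have k5 : x3 p * x3 p' * (x5 q * x5 q') = x3 p * x5 q * (x3 p' * x5 q') * kk (x3 p') (x5 q) := by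
      calc x3 p * x3 p' * (x5 q * x5 q') = x3 p * (x3 p' * x5 q) * x5 q' := by group
        _ = x3 p * (x5 q * x3 p' * kk (x3 p') (x5 q)) * x5 q' := by rw [k3]
        _ = x3 p * (x5 q * x3 p') * (kk (x3 p') (x5 q) * x5 q') := by group
        _ = _ := by rw [k4]; group
    rw [k5]
    exact mul_mem k2 k1
  have y1 := hy B1
  have y2 := hy B2
  have y3 := hy B3
  have y4 := hy B4
  have y5 := hy B5
  rw [sh] at y1 y2 y3 y4 y5
  -- powers of `θ`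
  have t6 : θ ^ 6 = θ ^ 2 + 1 := by
    linear_combination (θ ^ 3 + θ + 1) * hθ + θ * h2
  have t3 : (1 + θ) ^ 6 = θ ^ 2 + θ := by
    have e : (1 + θ) ^ 6 = θ ^ 18 := by
      rw [add_comm 1 θ, ← hθ]; ring
    have e2 : θ ^ 18 = θ ^ 8 * θ ^ 8 * θ ^ 2 := by ring
    rw [e, e2, h8]
    linear_combination θ * hθ
  have t4 : (θ ^ 2) ^ 6 = θ ^ 2 + θ + 1 := by
    have e : (θ ^ 2) ^ 6 = θ ^ 8 * θ ^ 4 := by ring
    rw [e, h8]
    linear_combination (θ ^ 2 + 1) * hθ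
  have t5 : (1 + θ ^ 2) ^ 6 = θ := by
    have e : 1 + θ ^ 2 = θ ^ 6 := by rw [t6, add_comm]
    have e2 : (θ ^ 6) ^ 6 = (θ ^ 8) ^ 4 * θ ^ 4 := by ring
    have e3 : θ ^ 4 * θ ^ 4 = θ ^ 8 := by ring
    rw [e, e2, h8, e3, h8]
  rw [one_pow] at y1
  rw [t6] at y2
  rw [t3] at y3
  rw [t4] at y4
  rw [t5] at y5
  -- `x3 θ`, `x3 θ²`
  have a1 : x3 θ ∈ J := by
    have h := mulY (mulY y1 y2) y3
    have e1 : 1 + (θ ^ 2 + 1) + (θ ^ 2 + θ) = θ := by linear_combination (θ ^ 2 + 1) * h2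
    have e2 : 1 + θ + (1 + θ) = 0 := by linear_combination (θ + 1) * h2
    rwa [e1, e2, z5 P, mul_one] at h
  have a2 : x3 (θ ^ 2) ∈ J := by
    have h := mulY (mulY y1 y4) y5
    have e1 : 1 + (θ ^ 2 + θ + 1) + θ = θ ^ 2 := by linear_combination (θ + 1) * h2
    have e2 : 1 + θ ^ 2 + (1 + θ ^ 2) = 0 := by linear_combination (θ ^ 2 + 1) * h2
    rwa [e1, e2, z5 P, mul_one] at h
  have b1 : x5 (1 + θ) ∈ J := by
    have h := mul_mem (inv_mem (ad3 a2 a1)) y3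
    rwa [inv_mul_cancel_left] at h
  have b2 : x5 (1 + θ ^ 2) ∈ J := by
    have h := mul_mem (inv_mem a1) y5
    rwa [inv_mul_cancel_left] at h
  have a3 : x3 (θ ^ 2 + θ + 1) ∈ J := by
    have h := x3_crs P hL (x1_of_x5 P hg hL b1) b2
    have e : crs σ (1 + θ) (1 + θ ^ 2) = θ ^ 2 + θ + 1 := by
      unfold crs
      simp only [hσ]
      have e8 := h8 θ
      linear_combination (θ ^ 2 + 2) * e8 + hθ + (1 + 4 * θ + 6 * θ ^ 2 + 10 * θ ^ 3 + 12 * θ ^ 4 + 12 * θ ^ 5 +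
        9 * θ ^ 6 + 6 * θ ^ 7 + 2 * θ ^ 8 + θ ^ 9) * h2
    rwa [e] at h
  have a4 : x3 1 ∈ J := by
    have h := ad3 (ad3 a3 a1) a2
    have e : θ ^ 2 + θ + 1 + θ + θ ^ 2 = 1 := by linear_combination (θ ^ 2 + θ) * h2
    rwa [e] at h
  have c1 : x5 1 ∈ J := by
    have h := mul_mem (inv_mem a4) y1
    rwa [inv_mul_cancel_left] at h
  have c2 : x5 θ ∈ J := by
    have h := mul_mem (inv_mem (ad3 a2 a4)) y2
    rwa [inv_mul_cancel_left] at h
  have c3 : x5 (θ ^ 2) ∈ J := by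
    have h := mul_mem (inv_mem a3) y4
    rwa [inv_mul_cancel_left] at h
  have hfix : ∀ r : E, σ r = r → r = 0 ∨ r = 1 := by
    intro r hr
    rw [hσ] at hr
    have : r * (r - 1) = 0 := by linear_combination hr
    rcases mul_eq_zero.1 this with h | h
    · exact Or.inl h
    · exact Or.inr (sub_eq_zero.1 h)
  have hθ' : σ θ ≠ θ := by
    intro h
    rcases hfix θ h with h | h
    · rw [h] at hθ; norm_num at hθ
    · rw [h, one_pow, one_add_one_eq_two, h2] at hθ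
      exact one_ne_zero hθ
  have h5 : ∀ e, x5 e ∈ J := by
    intro e
    obtain ⟨r, u, v, hr, hu, hv, rfl⟩ := vander P.rel.cube hθ' e
    have k0 : x5 0 ∈ J := by rw [z5 P]; exact one_mem _
    refine ad5 (ad5 ?_ ?_) ?_
    · rcases hfix r hr with rfl | rfl
      · exact k0
      · exact c1
    · rcases hfix u hu with rfl | rfl
      · rw [zero_mul]; exact k0
      · rw [one_mul]; exact c2
    · rcases hfix v hv with rfl | rfl
      · rw [zero_mul]; exact k0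
      · rw [one_mul]; exact c3
  have h3 : ∀ r, σ r = r → x3 r ∈ J := by
    intro r hr
    rcases hfix r hr with rfl | rfl
    · rw [z3 P]; exact one_mem _
    · exact a4
  exact eq_top' P hg hgen hL h5 h3

/-- **(3c)** `|F| = 2`, `|E| = 8` -/
theorem top_two (hg : Good c.r2) (hgen : ⨆ i, c.X i = ⊤) (hσ : ∀ e, σ e = e ^ 2) (h8 : ∀ e : E, e ^ 8 = e)
    {θ : E} (hθ : θ ^ 3 = θ + 1) (h2 : (2 : E) = 0)
    (hO : OP a (c.X 0) (c.X 6)) (hR : Reach a k (Long c)) : Reach a (k + 5) ⊤ := by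
  have hL0 : c.X 0 ≤ Long c := X_le_Long c 0 (by decide)
  have cen : ∀ e : E, ∀ x ∈ c.X 0, x1 e * x = x * x1 e := fun e x hx => cc10 P _ (m1 P e) _ hx
  have r1 := add_conj hO (cen 1) hR hL0
  have r2 := add_conj hO (cen θ) r1 (hL0.trans le_sup_left)
  have r3 := add_conj hO (cen (1 + θ)) r2 ((hL0.trans le_sup_left).trans le_sup_left)
  have r4 := add_conj hO (cen (θ ^ 2)) r3 (((hL0.trans le_sup_left).trans le_sup_left).trans le_sup_left)
  have r5 := add_conj hO (cen (1 + θ ^ 2)) r4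
    ((((hL0.trans le_sup_left).trans le_sup_left).trans le_sup_left).trans le_sup_left)
  rwa [gen_two P hg hgen hσ h8 hθ h2
    ((((le_sup_left.trans le_sup_left).trans le_sup_left).trans le_sup_left).trans le_sup_left)
    ((((le_sup_right.trans le_sup_left).trans le_sup_left).trans le_sup_left).trans le_sup_left)
    (((le_sup_right.trans le_sup_left).trans le_sup_left).trans le_sup_left)
    ((le_sup_right.trans le_sup_left).trans le_sup_left) (le_sup_right.trans le_sup_left) le_sup_right] at r5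

/-! ### Finite fields -/

omit P in
theorem exists_theta {E : Type*} [Field E] [Fintype E] (h : Fintype.card E = 8) :
    (2 : E) = 0 ∧ (∀ e : E, e ^ 8 = e) ∧ ∃ θ : E, θ ^ 3 = θ + 1 := by
  classical
  have h8 : ∀ e : E, e ^ 8 = e := fun e => by rw [← h]; exact FiniteField.pow_card e
  have h2 : (2 : E) = 0 := by
    have h3 : ((8 : ℕ) : E) = 0 := by rw [← h]; exact Nat.cast_card_eq_zero E
    have h4 : (2 : E) ^ 3 = 0 := by
      rw [← h3]; push_cast; norm_num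
    exact pow_eq_zero_iff (by norm_num) |>.1 h4
  refine ⟨h2, h8, ?_⟩
  obtain ⟨u, hu0, hu1⟩ : ∃ u : E, u ≠ 0 ∧ u ≠ 1 := by
    by_contra hcon
    push Not at hcon
    have h5 : Fintype.card E ≤ ({0, 1} : Finset E).card := by
      rw [← Finset.card_univ]
      refine Finset.card_le_card fun x _ => ?_
      rw [Finset.mem_insert, Finset.mem_singleton]
      by_cases hx : x = 0
      · exact Or.inl hx
      · exact Or.inr (hcon x hx)
    have h6 := Finset.card_le_two (a := (0 : E)) (b := 1)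
    omega
  have h7 : u ^ 7 = 1 := by
    have h9 : u * (u ^ 7 - 1) = 0 := by linear_combination h8 u
    rcases mul_eq_zero.1 h9 with h10 | h10
    · exact absurd h10 hu0
    · exact sub_eq_zero.1 h10
  have h9 : (u - 1) * ((u ^ 3 + u + 1) * (u ^ 3 + u ^ 2 + 1)) = 0 := by
    linear_combination h7 + (u ^ 4 - u ^ 3) * h2
  rcases mul_eq_zero.1 h9 with h10 | h10
  · exact absurd (sub_eq_zero.1 h10) hu1
  rcases mul_eq_zero.1 h10 with h11 | h11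
  · exact ⟨u, by linear_combination h11 - (u + 1) * h2⟩
  · refine ⟨u ^ 6, ?_⟩
    have e : (u ^ 6) ^ 3 = u ^ 4 := by
      have : (u ^ 6) ^ 3 = (u ^ 7) ^ 2 * u ^ 4 := by ring
      rw [this, h7, one_pow, one_mul]
    rw [e]
    linear_combination (-u ^ 3 + u ^ 2 + 1) * h11 - (u ^ 2 + 1) * h2

omit P in
theorem exists_fixed {E : Type*} [Field E] [Fintype E] {q : ℕ} (hq : 3 ≤ q) (h : Fintype.card E = q ^ 3) :
    ∃ s : E, s ^ q = s ∧ s ≠ 0 ∧ s ≠ 1 := by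
  classical
  obtain ⟨g, hg⟩ := IsCyclic.exists_generator (α := Eˣ)
  have ho : orderOf g = q ^ 3 - 1 := by
    rw [orderOf_eq_card_of_forall_mem_zpowers hg, Nat.card_eq_fintype_card, Fintype.card_units, h]
  have e1 : (q ^ 2 + q + 1) * (q - 1) = q ^ 3 - 1 := by
    obtain ⟨m, rfl⟩ : ∃ m, q = m + 1 := ⟨q - 1, by omega⟩
    have e2 : (m + 1) ^ 3 = ((m + 1) ^ 2 + (m + 1) + 1) * m + 1 := by ring
    rw [e2]
    simp
  have h1 : (g ^ (q ^ 2 + q + 1)) ^ (q - 1) = 1 := by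
    rw [← pow_mul, e1, ← ho, pow_orderOf_eq_one]
  have h2 : (g ^ (q ^ 2 + q + 1)) ^ q = g ^ (q ^ 2 + q + 1) := by
    have : q = (q - 1) + 1 := by omega
    conv_lhs => rw [this]
    rw [pow_succ, ← this, h1, one_mul]
  have h3 : g ^ (q ^ 2 + q + 1) ≠ 1 := by
    intro h4
    have h5 := orderOf_dvd_of_pow_eq_one h4
    rw [ho, ← e1] at h5
    have h6 := Nat.le_of_dvd (by positivity) h5
    have h7 : (q ^ 2 + q + 1) * 2 ≤ (q ^ 2 + q + 1) * (q - 1) := Nat.mul_le_mul_left _ (by omega)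
    have h8 : 0 < q ^ 2 + q + 1 := by positivity
    omega
  refine ⟨((g ^ (q ^ 2 + q + 1) : Eˣ) : E), ?_, Units.ne_zero _, ?_⟩
  · rw [← Units.val_pow_eq_pow_val, h2]
  · intro h4
    exact h3 (Units.ext (by rw [h4, Units.val_one]))

omit P in
theorem good_simple [IsSimpleGroup Y] (hgen : ⨆ i, c.X i = ⊤) (hU : c.U ≠ ⊤) : Good c.r2 :=
  Cfsg.Agent.RootSeq.Final.good_of_simple (by norm_num) (Cfsg.Agent.RootSeq.Final.rgdz_gen c hgen) hU
    (Cfsg.Agent.RootSeq.Final.rgdz_U_ne_bot c)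

/-- **the whole chain, `³D₄(q)`, `q ≥ 3`** -/
theorem chain_td4 [Fintype E] {q : ℕ} (hq : 3 ≤ q) (hE : Fintype.card E = q ^ 3) (hσ : ∀ e, σ e = e ^ q)
    (hg : Good c.r2) (hgen : ⨆ i, c.X i = ⊤) (hO : OP a (c.X 0) (c.X 6)) (hR : Reach a k (c.X 0 ⊔ c.X 6)) :
    Reach a (k + 5) ⊤ := by
  obtain ⟨s, hs, h0, h1⟩ := exists_fixed hq hE
  exact top_td4 P hg hgen (s := s) (by rw [hσ, hs]) h0 h1 hO (long P hO hR)

/-- **the whole chain, `³D₄(2)`** -/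
theorem chain_two [Fintype E] (hE : Fintype.card E = 8) (hσ : ∀ e, σ e = e ^ 2)
    (hg : Good c.r2) (hgen : ⨆ i, c.X i = ⊤) (hO : OP a (c.X 0) (c.X 6)) (hR : Reach a k (c.X 0 ⊔ c.X 6)) :
    Reach a (k + 7) ⊤ := by
  obtain ⟨h2, h8, θ, hθ⟩ := exists_theta hE
  exact top_two P hg hgen hσ h8 hθ h2 hO (long P hO hR)

/-- **the whole chain, `G₂(q)`, `q ≥ 3`** -/
theorem chain_g2 (hσ : ∀ e, σ e = e) (hF : ∃ s : E, s ≠ 0 ∧ s ≠ 1) (hg : Good c.r2) (hgen : ⨆ i, c.X i = ⊤)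
    (hO : OP a (c.X 0) (c.X 6)) (hR : Reach a k (c.X 0 ⊔ c.X 6)) : Reach a (k + 3) ⊤ := by
  obtain ⟨s, h0, h1⟩ := hF
  exact top_refl P hσ hg hgen h0 h1 hO (long P hO hR)

/-! ### Pure generation, finite fields -/

/-- `G₂(q)`, `q ≥ 3`: the long root groups and `x1(1) X 6 x1(1)⁻¹` -/
theorem gen_g2 (hσ : ∀ e, σ e = e) (hF : ∃ s : E, s ≠ 0 ∧ s ≠ 1) (hg : Good c.r2) (hgen : ⨆ i, c.X i = ⊤) :
    ∃ b : E, ∀ J : Subgroup Y, Long c ≤ J → (c.X 6).map (MulAut.conj (x1 b)).toMonoidHom ≤ J → J = ⊤ := by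
  obtain ⟨s, h0, h1⟩ := hF
  exact ⟨1, fun J hL hB => gen_refl P hσ hg hgen h0 h1 hL hB⟩

/-- `³D₄(q)`, `q ≥ 3`: the long root groups and three groups `x1(b) X 6 x1(b)⁻¹` -/
theorem gen_td4 [Fintype E] {q : ℕ} (hq : 3 ≤ q) (hE : Fintype.card E = q ^ 3) (hσ : ∀ e, σ e = e ^ q)
    (hg : Good c.r2) (hgen : ⨆ i, c.X i = ⊤) :
    ∃ f : Fin 3 → E, ∀ J : Subgroup Y, Long c ≤ J →
      (∀ i, (c.X 6).map (MulAut.conj (x1 (f i))).toMonoidHom ≤ J) → J = ⊤ := by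
  obtain ⟨s, hs, h0, h1⟩ := exists_fixed hq hE
  have hs' : σ s = s := by rw [hσ, hs]
  by_cases hσ1 : ∀ e, σ e = e
  · exact ⟨fun _ => 1, fun J hL hB => gen_refl P hσ1 hg hgen h0 h1 hL (hB 0)⟩
  · push Not at hσ1
    obtain ⟨θ, hθ⟩ := hσ1
    exact ⟨![1, θ, θ ^ 2], fun J hL hB => gen_three P hg hgen hs' h0 h1 (vander P.rel.cube hθ) hL (hB 0) (hB 1) (hB 2)⟩

/-- `³D₄(2)`: the long root groups and five groups `x1(b) X 6 x1(b)⁻¹` -/
theorem gen_td4_two [Fintype E] (hE : Fintype.card E = 8) (hσ : ∀ e, σ e = e ^ 2)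
    (hg : Good c.r2) (hgen : ⨆ i, c.X i = ⊤) :
    ∃ f : Fin 5 → E, ∀ J : Subgroup Y, Long c ≤ J →
      (∀ i, (c.X 6).map (MulAut.conj (x1 (f i))).toMonoidHom ≤ J) → J = ⊤ := by
  obtain ⟨h2, h8, θ, hθ⟩ := exists_theta hE
  exact ⟨![1, θ, 1 + θ, θ ^ 2, 1 + θ ^ 2], fun J hL hB =>
    gen_two P hg hgen hσ h8 hθ h2 hL (hB 0) (hB 1) (hB 2) (hB 3) (hB 4)⟩

theorem cc12 : Cc (c.X 1) (c.X 2) := by
  intro x hx y hy
  obtain ⟨t, rfl⟩ := (P.mem1 x).1 hx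
  obtain ⟨u, hu, rfl⟩ := (P.mem2 y).1 hy
  exact comm_of_kk (P.rel.c12 t u hu)

omit P in
/-- **from a pure generation statement to `Reach`**, for `A` centralised by `X 1` -/
theorem reach_of_gen {A : Subgroup Y} (hA : A ≤ Long c) (hcen : ∀ e, ∀ x ∈ A, x1 e * x = x * x1 e)
    (hO : OP a A (c.X 6)) {n : ℕ} {f : Fin n → E}
    (hf : ∀ J : Subgroup Y, Long c ≤ J → (∀ i, (c.X 6).map (MulAut.conj (x1 (f i))).toMonoidHom ≤ J) → J = ⊤)
    (hR : Reach a k (Long c)) : Reach a (k + n) ⊤ := by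
  have key : ∀ m, m ≤ n → Reach a (k + m) (Long c ⊔ ⨆ i : Fin n, ⨆ _ : i.val < m,
      (c.X 6).map (MulAut.conj (x1 (f i))).toMonoidHom) := by
    intro m
    induction m with
    | zero =>
      intro _
      refine hR.sub (sup_le le_rfl (iSup_le fun i => iSup_le fun hi => ?_))
      omega
    | succ m ih =>
      intro hm
      have h1 := add_conj hO (hcen (f ⟨m, hm⟩)) (ih (by omega)) (hA.trans le_sup_left)
      refine h1.sub (sup_le (le_sup_left.trans le_sup_left) (iSup_le fun i => iSup_le fun hi => ?_))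
      rcases Nat.lt_or_ge i.val m with h2 | h2
      · exact (le_iSup₂_of_le (f := fun (i : Fin n) (_ : i.val < m) =>
          (c.X 6).map (MulAut.conj (x1 (f i))).toMonoidHom) i h2 le_rfl).trans (le_sup_right.trans le_sup_left)
      · have h3 : i = ⟨m, hm⟩ := Fin.ext (by change i.val = m; omega)
        rw [h3]
        exact le_sup_right
  have h1 := key n le_rfl
  rwa [hf _ le_sup_left fun i => (le_iSup₂_of_le (f := fun (i : Fin n) (_ : i.val < n) =>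
    (c.X 6).map (MulAut.conj (x1 (f i))).toMonoidHom) i i.2 le_rfl).trans le_sup_right] at h1

/-- the chains with `OP a (X 2) (X 6)` -/
theorem top2_g2 (hσ : ∀ e, σ e = e) (hF : ∃ s : E, s ≠ 0 ∧ s ≠ 1) (hg : Good c.r2) (hgen : ⨆ i, c.X i = ⊤)
    (hO : OP a (c.X 2) (c.X 6)) (hR : Reach a k (Long c)) : Reach a (k + 1) ⊤ := by
  obtain ⟨b, hb⟩ := gen_g2 P hσ hF hg hgen
  exact reach_of_gen (x1 := x1) (X_le_Long c 1 (by decide)) (fun e x hx => cc12 P _ (m1 P e) _ hx) hO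
    (f := fun _ : Fin 1 => b) (fun J hL h => hb J hL (h 0)) hR

theorem top2_td4 [Fintype E] {q : ℕ} (hq : 3 ≤ q) (hE : Fintype.card E = q ^ 3) (hσ : ∀ e, σ e = e ^ q)
    (hg : Good c.r2) (hgen : ⨆ i, c.X i = ⊤) (hO : OP a (c.X 2) (c.X 6)) (hR : Reach a k (Long c)) :
    Reach a (k + 3) ⊤ := by
  obtain ⟨f, hf⟩ := gen_td4 P hq hE hσ hg hgen
  exact reach_of_gen (x1 := x1) (X_le_Long c 1 (by decide)) (fun e x hx => cc12 P _ (m1 P e) _ hx) hO hf hR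

theorem top2_two [Fintype E] (hE : Fintype.card E = 8) (hσ : ∀ e, σ e = e ^ 2)
    (hg : Good c.r2) (hgen : ⨆ i, c.X i = ⊤) (hO : OP a (c.X 2) (c.X 6)) (hR : Reach a k (Long c)) :
    Reach a (k + 5) ⊤ := by
  obtain ⟨f, hf⟩ := gen_td4_two P hE hσ hg hgen
  exact reach_of_gen (x1 := x1) (X_le_Long c 1 (by decide)) (fun e x hx => cc12 P _ (m1 P e) _ hx) hO hf hR

end Hex

end Cfsg.Agent.H164.Gs
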